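import Cfsg.Agent.Lib.LatticeTheta.Poisson

/-!
# Theta series of unimodular positive definite integer forms: the inversion formula
-/

set_option autoImplicit false

noncomputable section

open MeasureTheory Set Function Matrix
open scoped Real MatrixOrder

namespace CfsgLib.LatticeTheta

variable {ι : Type*} [Fintype ι] [DecidableEq ι]

/-- A symmetric positive definite integer matrix of determinant one. -/
structure IsUnimodPos (B : Matrix ι ι ℤ) : Prop where
  symm : B.IsSymm
  pos : ∀ x : ι → ℤ, x ≠ 0 → 0 < x ⬝ᵥ (B *ᵥ x)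
  det : B.det = 1

/-- The real quadratic form of an integer matrix. -/
def qr (B : Matrix ι ι ℤ) (v : ι → ℝ) : ℝ :=
  v ⬝ᵥ (B.map (fun z : ℤ => (z : ℝ)) *ᵥ v)

/-- A term of the theta series. -/
def thetaTerm (B : Matrix ι ι ℤ) (τ : ℂ) (x : ι → ℤ) : ℂ :=
  Complex.exp (π * Complex.I * τ * ((x ⬝ᵥ (B *ᵥ x) : ℤ) : ℂ))

/-- The theta series. -/
def theta (B : Matrix ι ι ℤ) (τ : ℂ) : ℂ := ∑' x : ι → ℤ, thetaTerm B τ x

variable {B : Matrix ι ι ℤ}

omit [DecidableEq ι] in
theorem qr_castVec (B : Matrix ι ι ℤ) (x : ι → ℤ) :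
    qr B (castVec x) = ((x ⬝ᵥ (B *ᵥ x) : ℤ) : ℝ) := by
  simp [qr, castVec, dotProduct, mulVec]

omit [DecidableEq ι] in
theorem qr_smul (B : Matrix ι ι ℤ) (r : ℝ) (v : ι → ℝ) : qr B (r • v) = r ^ 2 * qr B v := by
  simp [qr, mulVec_smul, smul_dotProduct, dotProduct_smul, sq, mul_assoc]

omit [DecidableEq ι] in
theorem continuous_qr (B : Matrix ι ι ℤ) : Continuous (qr B) := by
  unfold qr
  simp only [dotProduct, mulVec]
  fun_prop

theorem IsUnimodPos.qr_nonneg (h : IsUnimodPos B) (v : ι → ℝ) : 0 ≤ qr B v := by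
  set w : ℕ → ι → ℝ := fun k => (1 / ((k : ℝ) + 1)) • castVec (fun i => ⌊((k : ℝ) + 1) * v i⌋)
    with hw
  have hlim : Filter.Tendsto w Filter.atTop (nhds v) := by
    rw [tendsto_pi_nhds]
    intro i
    rw [tendsto_iff_norm_sub_tendsto_zero]
    refine squeeze_zero (fun _ => norm_nonneg _) (fun k => ?_) tendsto_one_div_add_atTop_nhds_zero_nat
    have hk : (0 : ℝ) < (k : ℝ) + 1 := by positivity
    have h1 := Int.floor_le (((k : ℝ) + 1) * v i)
    have h2 := Int.lt_floor_add_one (((k : ℝ) + 1) * v i)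
    simp only [hw, Pi.smul_apply, castVec, smul_eq_mul, Real.norm_eq_abs]
    rw [abs_le]
    constructor <;> field_simp <;> linarith
  refine ge_of_tendsto' ((continuous_qr B).continuousAt.tendsto.comp hlim) fun k => ?_
  simp only [Function.comp, hw, qr_smul, qr_castVec]
  refine mul_nonneg (sq_nonneg _) ?_
  exact_mod_cast (by
    rcases eq_or_ne (fun i => ⌊((k : ℝ) + 1) * v i⌋) 0 with h0 | h0
    · rw [h0]; simp
    · exact (h.pos _ h0).le :
    (0 : ℤ) ≤ (fun i => ⌊((k : ℝ) + 1) * v i⌋) ⬝ᵥ (B *ᵥ fun i => ⌊((k : ℝ) + 1) * v i⌋))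

/-- A square root of the form, of determinant `±1`. -/
theorem IsUnimodPos.exists_sqrt (h : IsUnimodPos B) :
    ∃ A : Matrix ι ι ℝ, Aᵀ * A = B.map (fun z : ℤ => (z : ℝ)) ∧ |A.det| = 1 := by
  set R : Matrix ι ι ℝ := B.map (fun z : ℤ => (z : ℝ)) with hR
  have hps : R.PosSemidef := by
    refine .of_dotProduct_mulVec_nonneg ?_ fun v => ?_
    · ext i j
      simp only [hR, conjTranspose_apply, map_apply, star_trivial]
      exact_mod_cast h.symm.apply i j
    · simpa [qr] using h.qr_nonneg v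
  obtain ⟨A, hA⟩ := CStarAlgebra.nonneg_iff_eq_star_mul_self.mp hps.nonneg
  rw [star_eq_conjTranspose, conjTranspose_eq_transpose_of_trivial] at hA
  refine ⟨A, hA.symm, ?_⟩
  have hd : A.det * A.det = 1 := by
    have h1 : R.det = 1 := by
      rw [hR, show (fun z : ℤ => (z : ℝ)) = ⇑(Int.castRingHom ℝ) from rfl,
        ← RingHom.mapMatrix_apply, ← RingHom.map_det, h.det, map_one]
    rwa [hA, det_mul, det_transpose] at h1
  have h2 : |A.det| * |A.det| = 1 := by rw [← abs_mul, hd, abs_one]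
  nlinarith [abs_nonneg A.det]

omit [DecidableEq ι] in
theorem qr_eq_sum_sq {A : Matrix ι ι ℝ} (hA : Aᵀ * A = B.map (fun z : ℤ => (z : ℝ))) (v : ι → ℝ) :
    qr B v = ∑ i, (A *ᵥ v) i ^ 2 := by
  rw [qr, ← hA, ← mulVec_mulVec, dotProduct_mulVec, vecMul_transpose]
  simp [dotProduct, sq]

/-- Coercivity. -/
theorem IsUnimodPos.exists_le_qr (h : IsUnimodPos B) :
    ∃ c : ℝ, 0 < c ∧ ∀ v : ι → ℝ, c * ∑ i, v i ^ 2 ≤ qr B v := by
  obtain ⟨A, hA, hdet⟩ := h.exists_sqrt
  have hu : IsUnit A.det := isUnit_iff_ne_zero.mpr fun h0 => by simp [h0] at hdet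
  set C : ℝ := ∑ i, ∑ j, (A⁻¹) i j ^ 2 with hC
  have hC0 : 0 ≤ C := by positivity
  refine ⟨1 / (C + 1), by positivity, fun v => ?_⟩
  have hq : 0 ≤ qr B v := h.qr_nonneg v
  have hv : ∑ i, v i ^ 2 ≤ C * qr B v := by
    rw [hC, Finset.sum_mul]
    refine Finset.sum_le_sum fun i _ => ?_
    have hi : v i = ∑ j, (A⁻¹) i j * (A *ᵥ v) j := by
      have := congr_fun (show A⁻¹ *ᵥ (A *ᵥ v) = v by
        rw [mulVec_mulVec, nonsing_inv_mul A hu, one_mulVec]) i
      exact this.symm
    rw [hi, qr_eq_sum_sq hA]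
    exact Finset.sum_mul_sq_le_sq_mul_sq _ _ _
  rw [div_mul_eq_mul_div, one_mul, div_le_iff₀ (by positivity)]
  nlinarith

theorem summable_exp_neg_int_sq {a : ℝ} (ha : 0 < a) :
    Summable fun m : ℤ => Real.exp (-a * (m : ℝ) ^ 2) := by
  have h : Summable fun n : ℕ => Real.exp (-a * (n : ℝ) ^ 2) := by
    refine Summable.of_nonneg_of_le (fun _ => (Real.exp_pos _).le) (fun n => ?_)
      (Real.summable_exp_nat_mul_iff.mpr (neg_lt_zero.mpr ha))
    refine Real.exp_le_exp.mpr ?_
    have h1 : (n : ℝ) ≤ (n : ℝ) ^ 2 := by exact_mod_cast Nat.le_self_pow two_ne_zero n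
    nlinarith
  exact Summable.of_nat_of_neg (by simpa using h) (by simpa using h)

omit [DecidableEq ι] in
theorem summable_exp_neg_sum_sq {a : ℝ} (ha : 0 < a) :
    Summable fun m : ι → ℤ => Real.exp (-a * ∑ i, (m i : ℝ) ^ 2) := by
  classical
  refine summable_of_sum_le (c := ∏ _i : ι, ∑' k : ℤ, Real.exp (-a * (k : ℝ) ^ 2))
    (fun m => (Real.exp_pos _).le) fun s => ?_
  simp only [Finset.mul_sum, Real.exp_sum]
  calc ∑ m ∈ s, ∏ i, Real.exp (-a * (m i : ℝ) ^ 2)
      ≤ ∑ m ∈ Fintype.piFinset (fun i => s.image fun m : ι → ℤ => m i),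
          ∏ i, Real.exp (-a * (m i : ℝ) ^ 2) :=
        Finset.sum_le_sum_of_subset_of_nonneg
          (fun m hm => Fintype.mem_piFinset.mpr fun i => Finset.mem_image_of_mem _ hm)
          (fun _ _ _ => Finset.prod_nonneg fun _ _ => (Real.exp_pos _).le)
    _ = ∏ i : ι, ∑ k ∈ s.image (fun m : ι → ℤ => m i), Real.exp (-a * (k : ℝ) ^ 2) :=
        (Finset.prod_univ_sum (fun i => s.image fun m : ι → ℤ => m i)
          (fun _ (k : ℤ) => Real.exp (-a * (k : ℝ) ^ 2))).symm
    _ ≤ _ := Finset.prod_le_prod (fun _ _ => Finset.sum_nonneg fun _ _ => (Real.exp_pos _).le)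
        (fun _ _ => (summable_exp_neg_int_sq ha).sum_le_tsum _ fun _ _ => (Real.exp_pos _).le)

theorem norm_thetaTerm (B : Matrix ι ι ℤ) (τ : ℂ) (x : ι → ℤ) :
    ‖thetaTerm B τ x‖ = Real.exp (-(π * τ.im) * qr B (castVec x)) := by
  rw [thetaTerm, Complex.norm_exp, qr_castVec]
  congr 1
  simp [Complex.mul_re, Complex.mul_im]

theorem IsUnimodPos.exists_summable_majorant (h : IsUnimodPos B) {ε : ℝ} (hε : 0 < ε) :
    ∃ u : (ι → ℤ) → ℝ, Summable u ∧ ∀ τ : ℂ, ε ≤ τ.im → ∀ x, ‖thetaTerm B τ x‖ ≤ u x := by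
  obtain ⟨c, hc, hle⟩ := h.exists_le_qr
  refine ⟨fun x => Real.exp (-(π * ε * c) * ∑ i, (x i : ℝ) ^ 2),
    summable_exp_neg_sum_sq (by positivity), fun τ hτ x => ?_⟩
  rw [norm_thetaTerm]
  refine Real.exp_le_exp.mpr ?_
  have h1 := hle (castVec x)
  simp only [castVec] at h1
  have h2 := mul_le_mul_of_nonneg_right (mul_le_mul_of_nonneg_left hτ Real.pi_pos.le)
    (h.qr_nonneg (castVec x))
  nlinarith [mul_le_mul_of_nonneg_left h1 (mul_pos Real.pi_pos hε).le]

theorem IsUnimodPos.summable_thetaTerm (h : IsUnimodPos B) {τ : ℂ} (hτ : 0 < τ.im) :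
    Summable (thetaTerm B τ) := by
  obtain ⟨u, hu, hb⟩ := h.exists_summable_majorant hτ
  exact hu.of_norm_bounded (hb τ le_rfl)

theorem IsUnimodPos.differentiableOn_theta (h : IsUnimodPos B) :
    DifferentiableOn ℂ (theta B) {z : ℂ | 0 < z.im} := by
  intro z hz
  obtain ⟨u, hu, hb⟩ := h.exists_summable_majorant (half_pos hz)
  have hd : DifferentiableOn ℂ (theta B) {w : ℂ | z.im / 2 < w.im} :=
    Complex.differentiableOn_tsum_of_summable_norm hu
      (fun x => (by unfold thetaTerm; fun_prop : Differentiable ℂ fun w => thetaTerm B w x).differentiableOn)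
      (isOpen_lt continuous_const Complex.continuous_im) (fun x w hw => hb w (le_of_lt hw) x)
  exact ((hd z (half_lt_self hz : z.im / 2 < z.im)).differentiableAt
    ((isOpen_lt continuous_const Complex.continuous_im).mem_nhds
      (half_lt_self hz : z.im / 2 < z.im))).differentiableWithinAt

/-- Multiplication by `B` on integer vectors. -/
def IsUnimodPos.vecEquiv (h : IsUnimodPos B) : (ι → ℤ) ≃ (ι → ℤ) where
  toFun m := B *ᵥ m
  invFun m := B.adjugate *ᵥ m
  left_inv m := by simp [mulVec_mulVec, adjugate_mul, h.det]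
  right_inv m := by simp [mulVec_mulVec, mul_adjugate, h.det]

/-- **Inversion formula.** -/
theorem IsUnimodPos.theta_transform (h : IsUnimodPos B) {k : ℕ} (hk : Fintype.card ι = 2 * k)
    {τ : ℂ} (hτ : 0 < τ.im) :
    theta B τ = (Complex.I / τ) ^ k * theta B (-1 / τ) := by
  obtain ⟨A, hA, hdet⟩ := h.exists_sqrt
  obtain ⟨c₀, hc₀, hle⟩ := h.exists_le_qr
  have hu : IsUnit A.det := isUnit_iff_ne_zero.mpr fun h0 => by simp [h0] at hdet
  have hτ0 : τ ≠ 0 := fun h0 => by simp [h0] at hτ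
  set b : ℂ := -(π * Complex.I * τ) with hbdef
  have hb : 0 < b.re := by
    simp only [hbdef, Complex.neg_re, Complex.mul_re, Complex.mul_im, Complex.ofReal_re,
      Complex.ofReal_im, Complex.I_re, Complex.I_im]
    ring_nf
    positivity
  set g : (ι → ℝ) → ℂ := fun v => Complex.exp (-b * (qr B v : ℂ)) with hgdef
  have hgc : Continuous g := by
    have := continuous_qr B
    simp only [hgdef]; fun_prop
  have hgx : ∀ x, g (castVec x) = thetaTerm B τ x := fun x => by
    simp [hgdef, thetaTerm, qr_castVec, hbdef]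
  -- change of variables
  have hmp : MeasurePreserving (Matrix.toLin' A) (volume : Measure (ι → ℝ)) volume := by
    refine ⟨(LinearMap.continuous_of_finiteDimensional _).measurable, ?_⟩
    rw [Real.map_matrix_volume_pi_eq_smul_volume_pi hu.ne_zero, abs_inv, hdet]
    simp
  have hemb : MeasurableEmbedding (Matrix.toLin' A) :=
    (LinearMap.continuous_of_finiteDimensional _).measurableEmbedding fun v w hvw => by
      simp only [Matrix.toLin'_apply] at hvw
      simpa [mulVec_mulVec, nonsing_inv_mul A hu] using congrArg (A⁻¹ *ᵥ ·) hvw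
  set cc : (ι → ℤ) → ι → ℂ := fun n i =>
    -(2 * π * Complex.I) * (((A⁻¹)ᵀ *ᵥ castVec n) i : ℂ) with hccdef
  set H : (ι → ℤ) → (ι → ℝ) → ℂ := fun n u =>
    Complex.exp (-b * ∑ i, (u i : ℂ) ^ 2 + ∑ i, cc n i * u i) with hHdef
  have hcomp : ∀ n v, phase n v * g v = H n (Matrix.toLin' A v) := by
    intro n v
    rw [phase, hgdef, hHdef]
    simp only [Matrix.toLin'_apply, ← Complex.exp_add, qr_eq_sum_sq hA]
    congr 1
    have h1 : ((A⁻¹)ᵀ *ᵥ castVec n) ⬝ᵥ (A *ᵥ v) = castVec n ⬝ᵥ v := by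
      rw [mulVec_transpose, ← dotProduct_mulVec, mulVec_mulVec, nonsing_inv_mul A hu, one_mulVec]
    have h2 := congrArg (fun r : ℝ => (r : ℂ)) h1
    simp only [dotProduct, castVec, Complex.ofReal_sum, Complex.ofReal_mul,
      Complex.ofReal_intCast] at h2
    push_cast
    rw [← h2, Finset.mul_sum, Finset.mul_sum, add_comm]
    congr 1
    exact Finset.sum_congr rfl fun i _ => by simp [hccdef, castVec]; ring
  have hHint : ∀ n, Integrable fun v => phase n v * g v := fun n => by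
    simp only [hcomp]
    exact (hmp.integrable_comp_emb hemb).mpr
      (GaussianFourier.integrable_cexp_neg_mul_sum_add hb (cc n))
  have hint : Integrable g := by
    refine (hHint 0).congr (Filter.Eventually.of_forall fun v => ?_)
    simp [phase]
  have hval : ∀ m, (∫ v, phase (B *ᵥ m) v * g v) =
      (Complex.I / τ) ^ k * thetaTerm B (-1 / τ) m := by
    intro m
    simp only [hcomp]
    rw [hmp.integral_comp hemb (H (B *ᵥ m)), hHdef]
    simp only []
    rw [GaussianFourier.integral_cexp_neg_mul_sum_add hb]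
    have hkk : ((Fintype.card ι : ℂ) / 2) = (k : ℂ) := by rw [hk]; push_cast; ring
    rw [hkk, Complex.cpow_natCast]
    have hpi : (π : ℂ) ≠ 0 := Complex.ofReal_ne_zero.mpr Real.pi_ne_zero
    congr 1
    · congr 1
      rw [hbdef]
      field_simp
      simp [Complex.I_sq]
    · rw [thetaTerm]
      congr 1
      have hw : (A⁻¹)ᵀ *ᵥ castVec (B *ᵥ m) = A *ᵥ castVec m := by
        have : castVec (B *ᵥ m) = B.map (fun z : ℤ => (z : ℝ)) *ᵥ castVec m := by
          funext i; simp [castVec, mulVec, dotProduct]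
        rw [this, ← hA, mulVec_mulVec, ← Matrix.mul_assoc, ← transpose_mul,
          mul_nonsing_inv A hu, transpose_one, Matrix.one_mul]
      have hs : (∑ i, cc (B *ᵥ m) i ^ 2) =
          -(4 * π ^ 2) * ((m ⬝ᵥ (B *ᵥ m) : ℤ) : ℂ) := by
        simp only [hccdef, hw]
        rw [show ((m ⬝ᵥ (B *ᵥ m) : ℤ) : ℂ) = ((qr B (castVec m) : ℝ) : ℂ) by
          rw [qr_castVec]; norm_cast, qr_eq_sum_sq hA, Complex.ofReal_sum, Finset.mul_sum]
        refine Finset.sum_congr rfl fun i _ => ?_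
        push_cast
        ring_nf
        simp [Complex.I_sq]
      rw [hs, hbdef]
      field_simp
      simp [Complex.I_sq]
  have hτ' : 0 < (-1 / τ).im := by
    rw [neg_div, one_div, Complex.neg_im, Complex.inv_im, neg_div, neg_neg]
    exact div_pos hτ (Complex.normSq_pos.mpr hτ0)
  have hsum := ((h.summable_thetaTerm hτ').hasSum).mul_left ((Complex.I / τ) ^ k)
  have hloc : ∀ v₀ : ι → ℝ, ∃ u : (ι → ℤ) → ℝ, Summable u ∧ ∀ m v, v ∈ Metric.closedBall v₀ 1 →
      ‖g (v + castVec m)‖ ≤ u m := by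
    intro v₀
    set R : ℝ := ∑ i, (|v₀ i| + 1) ^ 2 with hRdef
    refine ⟨fun m => Real.exp (b.re * c₀ * R) *
        Real.exp (-(b.re * c₀ / 2) * ∑ i, (m i : ℝ) ^ 2),
      (summable_exp_neg_sum_sq (by positivity)).mul_left _, fun m v hv => ?_⟩
    simp only [← Real.exp_add, hgdef]
    simp only [Complex.norm_exp]
    refine Real.exp_le_exp.mpr ?_
    simp only [Complex.mul_re, Complex.neg_re, Complex.ofReal_re, Complex.ofReal_im, mul_zero,
      sub_zero]
    have h1 := hle (v + castVec m)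
    have h2 : (∑ i, (m i : ℝ) ^ 2) / 2 - R ≤ ∑ i, (v + castVec m) i ^ 2 := by
      rw [hRdef, Finset.sum_div, ← Finset.sum_sub_distrib]
      refine Finset.sum_le_sum fun i _ => ?_
      have hvi : |v i| ≤ |v₀ i| + 1 := by
        have h3 := (dist_le_pi_dist v v₀ i).trans (Metric.mem_closedBall.mp hv)
        rw [Real.dist_eq] at h3
        have := abs_sub_abs_le_abs_sub (v i) (v₀ i)
        linarith
      simp only [Pi.add_apply, castVec]
      nlinarith [sq_nonneg ((m i : ℝ) + 2 * v i), sq_abs (v i), abs_nonneg (v i),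
        mul_le_mul hvi hvi (abs_nonneg _) (by positivity)]
    nlinarith [mul_le_mul_of_nonneg_left h1 hb.le,
      mul_le_mul_of_nonneg_left h2 (mul_pos hb hc₀).le]
  have hhat : HasSum (fun n : ι → ℤ => ∫ v, phase n v * g v)
      ((Complex.I / τ) ^ k * theta B (-1 / τ)) := by
    rw [← h.vecEquiv.hasSum_iff]
    exact hsum.congr_fun hval
  have hpois := hasSum_poisson g hgc hint hloc hhat.summable
  simp only [hgx] at hpois
  exact hpois.unique hhat

end CfsgLib.LatticeTheta
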