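import Mathlib

/-!
# Poisson summation over `ℤ^ι`

`hasSum_poisson`: for a continuous integrable `g` on `ι → ℝ` whose integer translates are
locally uniformly summable and whose transform is summable on `ℤ^ι`, the two sums agree.
-/

set_option autoImplicit false

noncomputable section

open MeasureTheory Set Function

namespace CfsgLib.LatticeTheta

variable {ι : Type*} [Fintype ι]

/-- The real vector underlying an integer vector. -/
def castVec (m : ι → ℤ) : ι → ℝ := fun i => (m i : ℝ)

/-- The character `v ↦ exp(-2πi n·v)`. -/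
def phase (n : ι → ℤ) (v : ι → ℝ) : ℂ :=
  Complex.exp (-(2 * Real.pi * Complex.I) * ∑ i, (n i : ℂ) * (v i : ℂ))

/-- The unit box. -/
def unitBox : Set (ι → ℝ) := {x | ∀ i, x i ∈ Ioc (0 : ℝ) (0 + 1)}

theorem measurableSet_unitBox : MeasurableSet (unitBox (ι := ι)) :=
  MeasurableSet.univ_pi' fun _ => measurableSet_Ioc

/-- The box based at the integer vector `m`. -/
def box (m : ι → ℤ) : Set (ι → ℝ) := {x | ∀ i, x i - (m i : ℝ) ∈ Ioc (0 : ℝ) (0 + 1)}

theorem measurableSet_box (m : ι → ℤ) : MeasurableSet (box m) :=
  measurableSet_unitBox.preimage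
    (by fun_prop : Measurable fun (v : ι → ℝ) (i : ι) => v i - (m i : ℝ))

omit [Fintype ι] in
theorem preimage_box (m : ι → ℤ) : (fun v => v + castVec m) ⁻¹' box m = unitBox := by
  ext v
  simp [box, unitBox, castVec]

omit [Fintype ι] in
theorem pairwise_disjoint_box : Pairwise (Disjoint on (box (ι := ι))) := by
  intro m m' h
  rw [Function.onFun, Set.disjoint_left]
  intro x hx hx'
  refine h (funext fun i => ?_)
  obtain ⟨h1, h2⟩ := hx i
  obtain ⟨h3, h4⟩ := hx' i
  have a1 : ((m i : ℤ) : ℝ) < (m' i : ℝ) + 1 := by linarith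
  have a2 : ((m' i : ℤ) : ℝ) < (m i : ℝ) + 1 := by linarith
  norm_cast at a1 a2
  omega

omit [Fintype ι] in
theorem iUnion_box : (⋃ m : ι → ℤ, box m) = (univ : Set (ι → ℝ)) := by
  refine eq_univ_of_forall fun x => mem_iUnion.mpr ⟨fun i => ⌈x i⌉ - 1, fun i => ?_⟩
  have h1 := Int.le_ceil (x i)
  have h2 := Int.ceil_lt_add_one (x i)
  constructor <;> push_cast <;> linarith

/-- Fold an integral over the whole space into the unit box. -/
theorem hasSum_unitBox_translates {E : Type*} [NormedAddCommGroup E] [NormedSpace ℝ E]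
    (f : (ι → ℝ) → E) (hf : Integrable f) :
    HasSum (fun m : ι → ℤ => ∫ v in unitBox, f (v + castVec m)) (∫ v, f v) := by
  have h := hasSum_integral_iUnion (μ := (volume : Measure (ι → ℝ))) measurableSet_box
    pairwise_disjoint_box (f := f) hf.integrableOn
  rw [iUnion_box, setIntegral_univ] at h
  refine h.congr_fun fun m => ?_
  rw [← preimage_box m]
  exact (measurePreserving_add_right (volume : Measure (ι → ℝ)) (castVec m)).setIntegral_preimage_emb
    (Homeomorph.addRight (castVec m)).measurableEmbedding f (box m)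

theorem norm_phase (n : ι → ℤ) (v : ι → ℝ) : ‖phase n v‖ = 1 := by
  rw [phase, Complex.norm_exp]
  simp [Complex.mul_re, Complex.mul_im]

theorem phase_add_castVec (n m : ι → ℤ) (v : ι → ℝ) :
    phase n (v + castVec m) = phase n v := by
  rw [phase, phase, Complex.exp_eq_exp_iff_exists_int]
  refine ⟨-∑ i, n i * m i, ?_⟩
  push_cast
  simp only [castVec, Pi.add_apply, Complex.ofReal_add, Complex.ofReal_intCast, mul_add,
    Finset.sum_add_distrib]
  ring

theorem continuous_phase (n : ι → ℤ) : Continuous (phase n) := by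
  unfold phase; fun_prop

/-- The projection to the torus. -/
def proj (v : ι → ℝ) : UnitAddTorus ι := fun i => (v i : UnitAddCircle)

theorem isOpenQuotientMap_proj : IsOpenQuotientMap (proj (ι := ι)) :=
  IsOpenQuotientMap.piMap fun _ => QuotientAddGroup.isOpenQuotientMap_mk

theorem mFourier_proj (n : ι → ℤ) (v : ι → ℝ) :
    UnitAddTorus.mFourier (-n) (proj v) = phase n v := by
  simp only [UnitAddTorus.mFourier, ContinuousMap.coe_mk, proj, fourier_coe_apply, phase,
    ← Complex.exp_sum, Pi.neg_apply]
  congr 1
  rw [Finset.mul_sum]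
  refine Finset.sum_congr rfl fun i _ => ?_
  push_cast
  ring

variable (g : (ι → ℝ) → ℂ)

/-- The periodisation of `g`. -/
def periodize (v : ι → ℝ) : ℂ := ∑' m : ι → ℤ, g (v + castVec m)

theorem periodize_add_castVec (v : ι → ℝ) (k : ι → ℤ) :
    periodize g (v + castVec k) = periodize g v := by
  unfold periodize
  rw [← Equiv.tsum_eq (Equiv.addLeft k) (fun m => g (v + castVec m))]
  refine tsum_congr fun m => ?_
  congr 1
  funext i
  simp [castVec, add_assoc]

theorem hasSum_poisson (hg : Continuous g) (hint : Integrable g)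
    (hloc : ∀ v₀ : ι → ℝ, ∃ u : (ι → ℤ) → ℝ, Summable u ∧ ∀ m v, v ∈ Metric.closedBall v₀ 1 →
      ‖g (v + castVec m)‖ ≤ u m)
    (hhat : Summable fun n : ι → ℤ => ∫ v, phase n v * g v) :
    HasSum (fun n : ι → ℤ => ∫ v, phase n v * g v) (∑' m : ι → ℤ, g (castVec m)) := by
  classical
  -- continuity of the periodisation
  have hcont : Continuous (periodize g) := by
    refine continuous_iff_continuousAt.mpr fun v₀ => ?_
    obtain ⟨u, hu, hb⟩ := hloc v₀
    refine (continuousOn_tsum (fun m => (hg.comp (by fun_prop)).continuousOn) hu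
      (fun m v hv => hb m v hv)).continuousAt (Metric.closedBall_mem_nhds v₀ one_pos)
  -- the descended function
  obtain ⟨s, hs⟩ := (isOpenQuotientMap_proj (ι := ι)).surjective.hasRightInverse
  have hper : ∀ v, periodize g (s (proj v)) = periodize g v := by
    intro v
    have h : ∀ i, ∃ k : ℤ, s (proj v) i = v i + k := by
      intro i
      have h1 := congr_fun (hs (proj v)) i
      simp only [proj] at h1
      obtain ⟨k, hk⟩ := AddSubgroup.mem_zmultiples_iff.mp (QuotientAddGroup.eq.mp h1.symm)
      refine ⟨k, ?_⟩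
      simp at hk
      linarith
    choose k hk using h
    have : s (proj v) = v + castVec k := funext hk
    rw [this, periodize_add_castVec]
  have hG : Continuous (periodize g ∘ s) := by
    rw [← (isOpenQuotientMap_proj (ι := ι)).continuous_comp_iff]
    exact hcont.congr fun v => (hper v).symm
  set G : C(UnitAddTorus ι, ℂ) := ⟨periodize g ∘ s, hG⟩ with hGdef
  have hGp : ∀ v, G (proj v) = periodize g v := hper
  -- its coefficients
  have hcoeff : ∀ n : ι → ℤ, UnitAddTorus.mFourierCoeff G n = ∫ v, phase n v * g v := by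
    intro n
    have hh : Integrable fun v => phase n v * g v :=
      hint.bdd_mul (continuous_phase n).aestronglyMeasurable
        (Filter.Eventually.of_forall fun v => (norm_phase n v).le)
    rw [UnitAddTorus.mFourierCoeff_eq_integral G n 0, ← (hasSum_unitBox_translates _ hh).tsum_eq]
    have hnorm : Summable fun m : ι → ℤ =>
        ∫ v in unitBox, ‖phase n (v + castVec m) * g (v + castVec m)‖ :=
      (hasSum_unitBox_translates _ hh.norm).summable
    refine Eq.trans ?_ (integral_tsum_of_summable_integral_norm
      (fun m => ((hh.comp_add_right (castVec m)).integrableOn (s := unitBox))) hnorm).symm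
    refine setIntegral_congr_fun measurableSet_unitBox fun v _ => ?_
    show UnitAddTorus.mFourier (-n) (proj v) • G (proj v) = _
    rw [mFourier_proj, hGp, smul_eq_mul, periodize, ← tsum_mul_left]
    exact tsum_congr fun m => by rw [phase_add_castVec]
  have hsum : Summable (UnitAddTorus.mFourierCoeff G) := hhat.congr fun n => (hcoeff n).symm
  have hfin := UnitAddTorus.hasSum_mFourier_series_apply_of_summable hsum (proj 0)
  have h0 : G (proj 0) = ∑' m : ι → ℤ, g (castVec m) := by
    rw [hGp, periodize]; simp
  rw [h0] at hfin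
  refine hfin.congr_fun fun n => ?_
  rw [hcoeff, show (UnitAddTorus.mFourier n (proj (0 : ι → ℝ)) : ℂ) = 1 by
    simp [UnitAddTorus.mFourier, proj], smul_eq_mul, mul_one]

end CfsgLib.LatticeTheta
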