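import Cfsg.Agent.Lib.LatticeTheta.Gaussian

/-!
# The theta series of an even unimodular lattice of rank 24 as a level-one form of weight 12
-/

set_option autoImplicit false

noncomputable section

open Matrix Function UpperHalfPlane ModularForm EisensteinSeries MatrixGroups
open scoped Real MatrixGroups ModularForm Manifold ArithmeticFunction.sigma

namespace CfsgLib.LatticeTheta

variable {ι : Type*} [Fintype ι] [DecidableEq ι] {B : Matrix ι ι ℤ}

/-- The number of vectors of norm `2 n`, as a cardinality of a set. -/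
def repSet (B : Matrix ι ι ℤ) (n : ℕ) : Set (ι → ℤ) := {x | x ⬝ᵥ (B *ᵥ x) = 2 * (n : ℤ)}

theorem IsUnimodPos.norm_nonneg' (h : IsUnimodPos B) (x : ι → ℤ) : 0 ≤ x ⬝ᵥ (B *ᵥ x) := by
  rcases eq_or_ne x 0 with rfl | hx
  · simp
  · exact (h.pos x hx).le

theorem IsUnimodPos.finite_repSet (h : IsUnimodPos B) (n : ℕ) : (repSet B n).Finite := by
  have hs := ((h.summable_thetaTerm (τ := Complex.I) (by simp)).norm).subtype (repSet B n)
  have he : ((fun x => ‖thetaTerm B Complex.I x‖) ∘ ((↑) : repSet B n → ι → ℤ)) =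
      fun _ => Real.exp (-(π * 1) * (2 * n)) := by
    funext x
    have hx : (x : ι → ℤ) ⬝ᵥ (B *ᵥ (x : ι → ℤ)) = 2 * (n : ℤ) := x.2
    simp [norm_thetaTerm, qr_castVec, hx]
  replace hs := hs.congr fun x => congr_fun he x
  by_contra hinf
  haveI := (Set.infinite_coe_iff.mpr hinf : Infinite (repSet B n))
  exact (Real.exp_pos _).ne' (((summable_const_iff (β := ↥(repSet B n)) _).mp hs))

theorem IsUnimodPos.repSet_zero (h : IsUnimodPos B) : repSet B 0 = {0} := by
  ext x
  simp only [repSet, Set.mem_setOf_eq, Nat.cast_zero, mul_zero, Set.mem_singleton_iff]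
  exact ⟨fun hx => by_contra fun hne => (h.pos x hne).ne' hx, fun hx => by simp [hx]⟩

theorem IsUnimodPos.hasSum_theta_qParam (h : IsUnimodPos B)
    (heven : ∀ x : ι → ℤ, (2 : ℤ) ∣ x ⬝ᵥ (B *ᵥ x)) (τ : ℍ) :
    HasSum (fun n => ((repSet B n).ncard : ℂ) • Periodic.qParam 1 (τ : ℂ) ^ n)
      (theta B (τ : ℂ)) := by
  set e : (ι → ℤ) → ℕ := fun x => ((x ⬝ᵥ (B *ᵥ x)) / 2).toNat with he
  have hfib : ∀ n, e ⁻¹' {n} = repSet B n := fun n => by
    ext x
    have h1 := h.norm_nonneg' x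
    have h2 := heven x
    simp only [he, Set.mem_preimage, Set.mem_singleton_iff, repSet, Set.mem_setOf_eq]
    omega
  have hs := (h.summable_thetaTerm τ.im_pos).hasSum.tsum_fiberwise e
  refine hs.congr_fun fun n => ?_
  rw [hfib n]
  haveI := (h.finite_repSet n).fintype
  have hterm : ∀ x : repSet B n, thetaTerm B (τ : ℂ) x = Periodic.qParam 1 (τ : ℂ) ^ n := by
    intro x
    rw [thetaTerm, show (x : ι → ℤ) ⬝ᵥ (B *ᵥ (x : ι → ℤ)) = 2 * (n : ℤ) from x.2,
      Periodic.qParam, ← Complex.exp_nat_mul]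
    congr 1
    push_cast
    ring
  rw [tsum_congr hterm, tsum_const, Nat.card_coe_set_eq, nsmul_eq_mul, smul_eq_mul]

theorem theta_add_one (heven : ∀ x : ι → ℤ, (2 : ℤ) ∣ x ⬝ᵥ (B *ᵥ x)) (z : ℂ) :
    theta B (z + 1) = theta B z := by
  refine tsum_congr fun x => ?_
  obtain ⟨j, hj⟩ := heven x
  rw [thetaTerm, thetaTerm, Complex.exp_eq_exp_iff_exists_int]
  refine ⟨j, ?_⟩
  rw [hj]
  push_cast
  ring

/-- The theta series as a modular form of weight 12. -/
def thetaForm (hB : IsUnimodPos B) (heven : ∀ x : ι → ℤ, (2 : ℤ) ∣ x ⬝ᵥ (B *ᵥ x))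
    (hcard : Fintype.card ι = 24) : ModularForm 𝒮ℒ 12 :=
  have hinv : ∀ γ : SL(2, ℤ), (fun τ : ℍ => theta B (τ : ℂ)) ∣[(12 : ℤ)] γ =
      fun τ : ℍ => theta B (τ : ℂ) :=
    SlashInvariantForm.slash_action_generators_SL2Z
      (by
        funext τ
        rw [SlashInvariantForm.slash_S_apply]
        have h1 := hB.theta_transform (k := 12) (by rw [hcard]) τ.im_pos
        have h2 : ((-(τ : ℂ))⁻¹) = -1 / (τ : ℂ) := by rw [inv_neg, neg_div, one_div]
        simp only [h2]
        rw [h1, div_pow, show (Complex.I : ℂ) ^ 12 = 1 by norm_num [pow_succ, Complex.I_sq]]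
        rw [_root_.zpow_neg, zpow_ofNat]
        ring)
      (by
        funext τ
        rw [SL_slash_apply, modular_T_smul]
        have : denom (ModularGroup.T : GL (Fin 2) ℝ) (τ : ℂ) = 1 := by
          simp [denom, ModularGroup.coe_T, Matrix.SpecialLinearGroup.map_apply_coe]
        rw [this, _root_.one_zpow, mul_one, coe_vadd]
        simpa [add_comm] using theta_add_one heven (τ : ℂ))
  { toFun := fun τ : ℍ => theta B (τ : ℂ)
    slash_action_eq' := fun _ ⟨γ, hγ⟩ => hγ ▸ hinv γ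
    holo' := UpperHalfPlane.mdifferentiable_iff.mpr <|
      hB.differentiableOn_theta.congr fun z hz => by
        simp [Function.comp, ofComplex_apply_of_im_pos hz]
    bdd_at_cusps' := fun {c} hc => by
      rw [Subgroup.IsArithmetic.isCusp_iff_isCusp_SL2Z] at hc
      rw [OnePoint.isBoundedAt_iff_forall_SL2Z hc]
      intro γ _
      rw [hinv γ]
      exact isBoundedAtImInfty_of_hasSum_qExpansion one_pos (hB.hasSum_theta_qParam heven) }

theorem coeff_thetaForm (hB : IsUnimodPos B) (heven : ∀ x : ι → ℤ, (2 : ℤ) ∣ x ⬝ᵥ (B *ᵥ x))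
    (hcard : Fintype.card ι = 24) (n : ℕ) :
    (qExpansion 1 (thetaForm hB heven hcard)).coeff n = ((repSet B n).ncard : ℂ) :=
  (ModularFormClass.qExpansion_coeff_unique (f := thetaForm hB heven hcard)
    (c := fun n => ((repSet B n).ncard : ℂ)) one_pos one_mem_strictPeriods_SL
    (fun τ => hB.hasSum_theta_qParam heven τ) n).symm

/-- For a rootless lattice the theta series is `(7 E₄³ + 5 E₆²) / 12`. -/
theorem qExpansion_thetaForm_rootless (hB : IsUnimodPos B)
    (heven : ∀ x : ι → ℤ, (2 : ℤ) ∣ x ⬝ᵥ (B *ᵥ x))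
    (hcard : Fintype.card ι = 24) (hroot : ∀ x : ι → ℤ, x ⬝ᵥ (B *ᵥ x) ≠ 2) :
    qExpansion 1 (thetaForm hB heven hcard) =
      (7 / 12 : ℂ) • qExpansion 1 E₄ ^ 3 + (5 / 12 : ℂ) • qExpansion 1 E₆ ^ 2 := by
  set D : ModularForm 𝒮ℒ 12 := thetaForm hB heven hcard -
    ((7 / 12 : ℂ) • ModularForm.mcast (by decide) (E₄.pow 3) +
      (5 / 12 : ℂ) • ModularForm.mcast (by decide) (E₆.pow 2)) with hD
  have hqD : qExpansion 1 D = qExpansion 1 (thetaForm hB heven hcard) -
      ((7 / 12 : ℂ) • qExpansion 1 E₄ ^ 3 + (5 / 12 : ℂ) • qExpansion 1 E₆ ^ 2) := by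
    rw [hD, FunLike.coe_sub, ModularForm.qExpansion_sub one_pos one_mem_strictPeriods_SL,
      FunLike.coe_add, ModularForm.qExpansion_add one_pos one_mem_strictPeriods_SL,
      FunLike.coe_smul, FunLike.coe_smul,
      ModularForm.qExpansion_smul one_pos one_mem_strictPeriods_SL,
      ModularForm.qExpansion_smul one_pos one_mem_strictPeriods_SL,
      ModularForm.qExpansion_mcast, ModularForm.qExpansion_mcast,
      ModularForm.qExpansion_pow one_pos one_mem_strictPeriods_SL,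
      ModularForm.qExpansion_pow one_pos one_mem_strictPeriods_SL]
  have hc0 : (repSet B 0).ncard = 1 := by rw [hB.repSet_zero, Set.ncard_singleton]
  have hc1 : (repSet B 1).ncard = 0 := by
    rw [show repSet B 1 = ∅ from Set.eq_empty_of_forall_notMem fun x hx => hroot x (by
      simpa [repSet] using hx), Set.ncard_empty]
  have hlow : ∀ i : ℕ, i < 2 → (qExpansion 1 D).coeff i = 0 := by
    intro i hi
    rw [hqD, map_sub, map_add, map_smul, map_smul, coeff_thetaForm]
    interval_cases i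
    · simp [hc0, PowerSeries.coeff_mul, pow_succ, -PowerSeries.coeff_zero_eq_constantCoeff,
        E_qExpansion_coeff_zero _ (⟨2, rfl⟩ : Even 4),
        E_qExpansion_coeff_zero _ (⟨3, rfl⟩ : Even 6)]
      norm_num
    · norm_num [hc1, pow_succ, PowerSeries.coeff_mul, Finset.Nat.antidiagonal_succ,
        E₄_qExpansion_coeff_one, E₆_qExpansion_coeff_one,
        E_qExpansion_coeff_zero _ (⟨2, rfl⟩ : Even 4),
        E_qExpansion_coeff_zero _ (⟨3, rfl⟩ : Even 6)]
  have hz : D = 0 := by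
    refine sturm_bound_levelOne (lt_of_lt_of_le ?_ (PowerSeries.nat_le_order _ 2 hlow))
    norm_cast
  rw [← sub_eq_zero, ← hqD, hz, FunLike.coe_zero, qExpansion_zero]

theorem sigma_values :
    (σ 3 2 = 9 ∧ σ 3 3 = 28 ∧ σ 3 4 = 73) ∧ (σ 5 2 = 33 ∧ σ 5 3 = 244 ∧ σ 5 4 = 1057) := by
  decide +kernel

theorem card_repSet_rootless (hB : IsUnimodPos B)
    (heven : ∀ x : ι → ℤ, (2 : ℤ) ∣ x ⬝ᵥ (B *ᵥ x))
    (hcard : Fintype.card ι = 24) (hroot : ∀ x : ι → ℤ, x ⬝ᵥ (B *ᵥ x) ≠ 2) :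
    (repSet B 2).ncard = 196560 ∧ (repSet B 3).ncard = 16773120 ∧
      (repSet B 4).ncard = 398034000 := by
  have key := qExpansion_thetaForm_rootless hB heven hcard hroot
  obtain ⟨⟨a2, a3, a4⟩, b2, b3, b4⟩ := sigma_values
  have e4 : ∀ m : ℕ, (qExpansion 1 E₄).coeff m = if m = 0 then 1 else 240 * (σ 3 m : ℂ) := by
    intro m
    rw [E_qExpansion_coeff _ (⟨2, rfl⟩ : Even 4), show bernoulli 4 = -1 / 30 by decide +kernel]
    norm_num
  have e6 : ∀ m : ℕ, (qExpansion 1 E₆).coeff m = if m = 0 then 1 else -504 * (σ 5 m : ℂ) := by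
    intro m
    rw [E_qExpansion_coeff _ (⟨3, rfl⟩ : Even 6), show bernoulli 6 = 1 / 42 by decide +kernel]
    norm_num
  have hcoeff : ∀ n, ((repSet B n).ncard : ℂ) =
      ((7 / 12 : ℂ) • qExpansion 1 E₄ ^ 3 + (5 / 12 : ℂ) • qExpansion 1 E₆ ^ 2).coeff n := fun n => by
    rw [← key, coeff_thetaForm]
  refine ⟨?_, ?_, ?_⟩ <;> apply Nat.cast_injective (R := ℂ) <;> rw [hcoeff] <;>
    norm_num [pow_succ, PowerSeries.coeff_mul, Finset.Nat.antidiagonal_succ, e4, e6,
      -PowerSeries.coeff_zero_eq_constantCoeff, a2, a3, a4, b2, b3, b4]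

end CfsgLib.LatticeTheta
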